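import Groth.Agent.PerfModel7.Basic
import Groth.Agent.S0591
import Groth.Agent.S2075

/-! Perfections of flat finitely presented schemes over perfections. -/

universe u

open CategoryTheory CategoryTheory.Limits AlgebraicGeometry Opposite

namespace Groth.Agent.PerfModel7

variable (p : ℕ) [hp : Fact p.Prime]

open H9Misc.PerfSchLib in
/-- A perfection is the limit of the Frobenius tower, and all the projections are perfections. -/
theorem exists_tower_cone {Z Y : Scheme.{u}} [FrobSch.IsCharP Z p] [FrobSch.IsCharP Y p] (πY : Y ⟶ Z)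
    (hY : FrobSch.IsPerfection πY p) :
    ∃ (c : Cone (tower p Z)) (_ : IsLimit c) (e : Y ≅ c.pt),
      ∀ n : ℕ, FrobSch.IsPerfection (e.hom ≫ c.π.app (op (ULift.up n)) : Y ⟶ Z) p ∧
        (e.hom ≫ c.π.app (op (ULift.up n)) : Y ⟶ Z) ≫ fi p Z n = πY := by
  obtain ⟨c, hc, -⟩ := Groth.Agent.S2151.result (tower p Z)
  let π : ∀ n : ℕ, c.pt ⟶ Z := fun n => c.π.app (op (ULift.up n))
  have hπ : ∀ n, π (n + 1) ≫ FrobSch.frob Z p = π n := fun n => by
    have := c.w (homOfLE (show (ULift.up n : ULift.{u} ℕ) ≤ ULift.up (n + 1) from Nat.le_succ n)).op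
    rwa [tower_succ] at this
  haveI : FrobSch.IsCharP c.pt p := FrobSch.IsCharP.of_hom (π 0) p
  have hext : ∀ {T : Scheme.{u}} {a b : T ⟶ c.pt}, (∀ n, a ≫ π n = b ≫ π n) → a = b :=
    fun h => hc.hom_ext fun i => h i.unop.down
  have h0 : FrobSch.IsPerfection (π 0) p := by
    refine ⟨?_, fun T _ hT => ⟨fun a b e => hext fun n => ?_, fun g => ?_⟩⟩
    · let s : c.pt ⟶ c.pt := hc.lift (mkCone p Z (fun n => π (n + 1)) fun n => hπ (n + 1))
      have hs : ∀ n, s ≫ π n = π (n + 1) := fun n => hc.fac _ (op (ULift.up n))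
      refine ⟨s, hext fun n => ?_, hext fun n => ?_⟩
      · rw [Category.assoc, hs, FrobSch.frob_comp, hπ, Category.id_comp]
      · rw [Category.assoc, FrobSch.frob_comp, ← Category.assoc, hs, hπ, Category.id_comp]
    · induction n with
      | zero => exact e
      | succ n ih =>
        haveI : IsIso (FrobSch.frob T p) := hT
        rw [← cancel_epi (FrobSch.frob T p), FrobSch.frob_comp, FrobSch.frob_comp, Category.assoc, Category.assoc,
          hπ, ih]
    · haveI : IsIso (FrobSch.frob T p) := hT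
      let gn : ℕ → (T ⟶ Z) := fun n => Nat.rec g (fun _ h => inv (FrobSch.frob T p) ≫ h) n
      have hg : ∀ n, gn (n + 1) ≫ FrobSch.frob Z p = gn n := fun n => by
        show (inv (FrobSch.frob T p) ≫ gn n) ≫ _ = _
        rw [Category.assoc, ← FrobSch.frob_comp, IsIso.inv_hom_id_assoc]
      exact ⟨hc.lift (mkCone p Z gn hg), hc.fac _ (op (ULift.up 0))⟩
  obtain ⟨e, he⟩ := exists_iso p hY h0
  have H : ∀ n : ℕ, π n ≫ fi p Z n = π 0 := by
    intro n
    induction n with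
    | zero => exact Category.comp_id _
    | succ n ih =>
      show π (n + 1) ≫ fi p Z n ≫ FrobSch.frob Z p = π 0
      rw [fi_comm, reassoc_of% hπ n, ih]
  refine ⟨c, hc, e, fun n => ?_⟩
  have hn : (e.hom ≫ π n) ≫ fi p Z n = πY := by rw [Category.assoc, H, he]
  refine ⟨⟨hY.1, fun T _ hT => ⟨fun a b hab => ?_, fun g => ?_⟩⟩, hn⟩
  · apply (hY.2 T hT).1
    show a ≫ πY = b ≫ πY
    rw [← hn]
    exact (reassoc_of% (show a ≫ (e.hom ≫ π n) = b ≫ (e.hom ≫ π n) from hab)) (fi p Z n)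
  · obtain ⟨k, hk⟩ := (hY.2 T hT).2 (g ≫ fi p Z n)
    refine ⟨k, cancel_fi p hT n ?_⟩
    show (k ≫ (e.hom ≫ π n)) ≫ fi p Z n = _
    rw [Category.assoc, hn]
    exact hk

open H9Misc.PerfSchLib in
/-- The perfection of a flat finitely presented scheme over a perfection is the perfection of a flat finitely
presented scheme over the base. -/
theorem exists_factor {X Y Z Y₀ Z₀ : Scheme.{u}} [FrobSch.IsCharP X p] [FrobSch.IsCharP Y p] [FrobSch.IsCharP Z p]
    [FrobSch.IsCharP Y₀ p] [CompactSpace X] [QuasiSeparatedSpace X] (hX : FrobSch.IsPerfect X p)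
    (g₀ : Y₀ ⟶ X) [Flat g₀] [LocallyOfFinitePresentation g₀] [QuasiCompact g₀] [QuasiSeparated g₀]
    (πY : Y ⟶ Y₀) (hY : FrobSch.IsPerfection πY p)
    (f₀ : Z₀ ⟶ Y) [Flat f₀] [LocallyOfFinitePresentation f₀] [QuasiCompact f₀] [QuasiSeparated f₀]
    (πZ : Z ⟶ Z₀) (hZ : FrobSch.IsPerfection πZ p) :
    ∃ (W₀ : Scheme.{u}) (h₀ : W₀ ⟶ X) (ϖ : Z ⟶ W₀),
      Flat h₀ ∧ LocallyOfFinitePresentation h₀ ∧ QuasiCompact h₀ ∧ QuasiSeparated h₀ ∧
        FrobSch.IsPerfection ϖ p ∧ ϖ ≫ h₀ = πZ ≫ f₀ ≫ πY ≫ g₀ ∧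
          (Surjective g₀ → Surjective f₀ → Surjective h₀) := by
  obtain ⟨c, hc, e, he⟩ := exists_tower_cone p πY hY
  have hc' : IsLimit (c.extend e.hom) := IsLimit.extendIso e.hom hc
  haveI : CompactSpace Y₀ := QuasiCompact.compactSpace_of_compactSpace g₀
  haveI : QuasiSeparatedSpace Y₀ := quasiSeparatedSpace_of_quasiSeparated g₀
  haveI : ∀ i, CompactSpace ((tower p Y₀).obj i) := fun _ => ‹CompactSpace Y₀›
  haveI : ∀ i, QuasiSeparatedSpace ((tower p Y₀).obj i) := fun _ => ‹QuasiSeparatedSpace Y₀›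
  obtain ⟨i, Xi, fi₁, g, _, _, _, hsq⟩ := Groth.Agent.S0591.result (tower p Y₀) (c.extend e.hom) hc' Z₀ f₀
  haveI : CompactSpace Xi := QuasiCompact.compactSpace_of_compactSpace fi₁
  haveI : QuasiSeparatedSpace Xi := quasiSeparatedSpace_of_quasiSeparated fi₁
  obtain ⟨i', φ, Xi', Yi', fi', gi, pY, pX, hP1, hP2, _⟩ :=
    Groth.Agent.S2075.result (tower p Y₀) (c.extend e.hom) hc' i fi₁ (𝟙 _) f₀ (𝟙 Y)
      ((c.extend e.hom).π.app i) g (IsPullback.of_vert_isIso ⟨(Category.comp_id _).trans (Category.id_comp _).symm⟩)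
      hsq
  haveI : IsIso gi := hP1.isIso_snd_of_isIso
  set h' : Xi' ⟶ (tower p Y₀).obj i' := fi' ≫ gi with hh'
  have hP : IsPullback pX h' fi₁ ((tower p Y₀).map φ) := by
    simpa using hP2.paste_vert hP1
  have hw : g ≫ fi₁ = (f₀ ≫ (c.extend e.hom).π.app i') ≫ (tower p Y₀).map φ := by
    rw [Category.assoc, (c.extend e.hom).w φ]; exact hsq.w
  set q : Z₀ ⟶ Xi' := hP.lift g (f₀ ≫ (c.extend e.hom).π.app i') hw with hq
  have hqP : IsPullback q f₀ h' ((c.extend e.hom).π.app i') := by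
    refine IsPullback.of_right ?_ (hP.lift_snd _ _ _) hP
    rw [hP.lift_fst, (c.extend e.hom).w φ]
    exact hsq
  haveI : LocallyOfFinitePresentation h' := MorphismProperty.of_isPullback hP inferInstance
  haveI : QuasiCompact h' := MorphismProperty.of_isPullback hP inferInstance
  haveI : QuasiSeparated h' := MorphismProperty.of_isPullback hP inferInstance
  haveI : Flat h' := inferInstanceAs (Flat (fi' ≫ gi))
  let m : ℕ := i'.unop.down
  let π' : Y ⟶ Y₀ := e.hom ≫ c.π.app (op (ULift.up m))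
  obtain ⟨hπ', hπ'F⟩ : FrobSch.IsPerfection π' p ∧ π' ≫ fi p Y₀ m = πY := he m
  obtain ⟨k, hk⟩ : ∃ k : Xi' ⟶ Y₀, k = h' := ⟨h', rfl⟩
  have hqP' : IsPullback q f₀ k π' := hk ▸ hqP
  haveI : Flat k := hk ▸ ‹Flat h'›
  haveI : LocallyOfFinitePresentation k := hk ▸ ‹LocallyOfFinitePresentation h'›
  haveI : QuasiCompact k := hk ▸ ‹QuasiCompact h'›
  haveI : QuasiSeparated k := hk ▸ ‹QuasiSeparated h'›
  haveI := isIso_fi p hX m
  refine ⟨Xi', k ≫ g₀ ≫ fi p X m, πZ ≫ q, inferInstance, inferInstance, inferInstance,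
    inferInstance, ⟨hZ.1, fun T _ hT => ⟨fun a b hab => ?_, fun r => ?_⟩⟩, ?_, fun _ _ => ?_⟩
  · apply (hZ.2 T hT).1
    show a ≫ πZ = b ≫ πZ
    have hab1 : (a ≫ πZ) ≫ q = (b ≫ πZ) ≫ q := by
      rw [Category.assoc, Category.assoc]; exact hab
    refine hqP'.hom_ext hab1 ?_
    apply (hπ'.2 T hT).1
    show ((a ≫ πZ) ≫ f₀) ≫ π' = ((b ≫ πZ) ≫ f₀) ≫ π'
    rw [Category.assoc (a ≫ πZ), Category.assoc (b ≫ πZ), ← hqP'.w, ← Category.assoc (a ≫ πZ),
      ← Category.assoc (b ≫ πZ), hab1]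
  · obtain ⟨y, hy⟩ := (hπ'.2 T hT).2 (r ≫ k)
    obtain ⟨z, hz⟩ := (hZ.2 T hT).2 (hqP'.lift r y hy.symm)
    refine ⟨z, ?_⟩
    show z ≫ πZ ≫ q = r
    rw [← Category.assoc, show z ≫ πZ = _ from hz, hqP'.lift_fst]
  · rw [Category.assoc, reassoc_of% hqP'.w, ← fi_comm, reassoc_of% hπ'F]
  · haveI : Surjective π' := H9Misc.PerfSchLib.surjective p π' hπ'
    haveI : Surjective (q ≫ k) := hqP'.w ▸ inferInstance
    haveI : Surjective k := Surjective.of_comp q _
    infer_instance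

end Groth.Agent.PerfModel7
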