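import Groth.Agent.H9Misc.PerfSchLib
import Groth.Agent.H9Misc.PerfSchRows
import Groth.Agent.S7383
import Groth.Agent.S4599
import Mathlib

/-! Compact perfect schemes have finitely presented models. -/

universe u

open CategoryTheory CategoryTheory.Limits AlgebraicGeometry Opposite

namespace Groth.Agent.PerfModel7

variable (p : ℕ) [hp : Fact p.Prime]

/-- Iterated Frobenius. -/
noncomputable def fi (Y : Scheme.{u}) [FrobSch.IsCharP Y p] : ℕ → (Y ⟶ Y)
  | 0 => 𝟙 Y
  | n + 1 => fi Y n ≫ FrobSch.frob Y p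

theorem fi_comm {Y Z : Scheme.{u}} [FrobSch.IsCharP Y p] [FrobSch.IsCharP Z p] (f : Y ⟶ Z) (n : ℕ) :
    fi p Y n ≫ f = f ≫ fi p Z n := by
  induction n with
  | zero => simp [fi]
  | succ n ih =>
    simp only [fi]
    rw [Category.assoc, FrobSch.frob_comp, ← Category.assoc, ih, Category.assoc]

theorem isIso_fi {Y : Scheme.{u}} [FrobSch.IsCharP Y p] (hY : FrobSch.IsPerfect Y p) (n : ℕ) :
    IsIso (fi p Y n) := by
  have : IsIso (FrobSch.frob Y p) := hY
  induction n with
  | zero => simp only [fi]; infer_instance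
  | succ n ih => simp only [fi]; infer_instance

theorem cancel_fi {Y Z : Scheme.{u}} [FrobSch.IsCharP Y p] [FrobSch.IsCharP Z p] (hY : FrobSch.IsPerfect Y p)
    {a b : Y ⟶ Z} (n : ℕ) (h : a ≫ fi p Z n = b ≫ fi p Z n) : a = b := by
  have := isIso_fi p hY n
  rwa [← fi_comm, ← fi_comm, cancel_epi] at h

/-- The base `Spec 𝔽_p`. -/
noncomputable abbrev base : Scheme.{u} := Spec (CommRingCat.of (ULift.{u} (ZMod p)))

instance : CharP (ULift.{u} (ZMod p)) p :=
  charP_of_injective_ringHom (f := (ULift.ringEquiv.symm : ZMod p ≃+* ULift.{u} (ZMod p)).toRingHom)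
    (RingEquiv.injective _) p

theorem base_hom_ext {Y : Scheme.{u}} (a b : Y ⟶ base.{u} p) : a = b := by
  apply (ΓSpec.adjunction.homEquiv _ _).symm.injective
  apply Quiver.Hom.unop_inj
  apply CommRingCat.hom_ext
  refine RingHom.ext fun x => ?_
  obtain ⟨m, hm⟩ := ZMod.natCast_zmod_surjective x.down
  have hx : x = (m : ULift.{u} (ZMod p)) := ULift.ext _ _ hm.symm
  exact hx ▸ (map_natCast _ m).trans (map_natCast _ m).symm

theorem exists_to_base (Y : Scheme.{u}) [FrobSch.IsCharP Y p] : Nonempty (Y ⟶ base.{u} p) := by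
  have h0 : ((p : ℕ) : Γ(Y, ⊤)) = 0 := FrobSch.IsCharP.natCast_eq_zero
  let g : ZMod p →+* Γ(Y, ⊤) := ZMod.lift' p h0
  exact ⟨Y.toSpecΓ ≫ Spec.map (CommRingCat.ofHom (g.comp (ULift.ringEquiv : ULift.{u} (ZMod p) ≃+* ZMod p).toRingHom))⟩
where
  ZMod.lift' {R : Type u} [CommRing R] (p : ℕ) (h : (p : R) = 0) : ZMod p →+* R :=
    (Ideal.Quotient.lift (Ideal.span {(p : ℤ)}) (Int.castRingHom R) (fun a ha => by
      obtain ⟨b, rfl⟩ := Ideal.mem_span_singleton.1 ha
      simp [h])).comp (Int.quotientSpanNatEquivZMod p).symm.toRingHom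

variable {X : Scheme.{u}}

open H9Misc.PerfSchLib in
/-- Perfections exist, and morphisms to schemes of finite presentation descend to a finite stage. -/
theorem exists_perfection_stages (Z : Scheme.{u}) [FrobSch.IsCharP Z p] [CompactSpace Z] [QuasiSeparatedSpace Z] :
    ∃ (P : Scheme.{u}) (_ : FrobSch.IsCharP P p) (π : P ⟶ Z), FrobSch.IsPerfection π p ∧
      ∀ (T : Scheme.{u}) (t : T ⟶ base.{u} p) (_ : LocallyOfFinitePresentation t) (m : P ⟶ T),
        ∃ (n : ℕ) (q : P ⟶ Z) (h : Z ⟶ T), q ≫ h = m ∧ q ≫ fi p Z n = π := by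
  obtain ⟨c, hc, haff⟩ := Groth.Agent.S2151.result (tower p Z)
  let π : ∀ n : ℕ, c.pt ⟶ Z := fun n => c.π.app (op (ULift.up n))
  have hπ : ∀ n, π (n + 1) ≫ FrobSch.frob Z p = π n := fun n => by
    have := c.w (homOfLE (show (ULift.up n : ULift.{u} ℕ) ≤ ULift.up (n + 1) from Nat.le_succ n)).op
    rwa [tower_succ] at this
  haveI : FrobSch.IsCharP c.pt p := FrobSch.IsCharP.of_hom (π 0) p
  have hext : ∀ {T : Scheme.{u}} {a b : T ⟶ c.pt}, (∀ n, a ≫ π n = b ≫ π n) → a = b :=
    fun h => hc.hom_ext fun i => h i.unop.down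
  refine ⟨c.pt, inferInstance, π 0, ⟨?_, fun Y _ hY => ⟨fun a b e => hext fun n => ?_, fun g => ?_⟩⟩,
    fun T t _ m => ?_⟩
  · let s : c.pt ⟶ c.pt := hc.lift (mkCone p Z (fun n => π (n + 1)) fun n => hπ (n + 1))
    have hs : ∀ n, s ≫ π n = π (n + 1) := fun n => hc.fac _ (op (ULift.up n))
    refine ⟨s, hext fun n => ?_, hext fun n => ?_⟩
    · rw [Category.assoc, hs, FrobSch.frob_comp, hπ, Category.id_comp]
    · rw [Category.assoc, FrobSch.frob_comp, ← Category.assoc, hs, hπ, Category.id_comp]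
  · induction n with
    | zero => exact e
    | succ n ih =>
      haveI : IsIso (FrobSch.frob Y p) := hY
      rw [← cancel_epi (FrobSch.frob Y p), FrobSch.frob_comp, FrobSch.frob_comp, Category.assoc, Category.assoc,
        hπ, ih]
  · haveI : IsIso (FrobSch.frob Y p) := hY
    let gn : ℕ → (Y ⟶ Z) := fun n => Nat.rec g (fun _ h => inv (FrobSch.frob Y p) ≫ h) n
    have hg : ∀ n, gn (n + 1) ≫ FrobSch.frob Z p = gn n := fun n => by
      show (inv (FrobSch.frob Y p) ≫ gn n) ≫ _ = _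
      rw [Category.assoc, ← FrobSch.frob_comp, IsIso.inv_hom_id_assoc]
    exact ⟨hc.lift (mkCone p Z gn hg), hc.fac _ (op (ULift.up 0))⟩
  · obtain ⟨f⟩ := exists_to_base p Z
    have : ∀ i, CompactSpace ((tower p Z).obj i) := fun _ => ‹CompactSpace Z›
    have : ∀ i, QuasiSeparatedSpace ((tower p Z).obj i) := fun _ => ‹QuasiSeparatedSpace Z›
    let τ : tower p Z ⟶ (Functor.const _).obj (base.{u} p) :=
      { app := fun _ => f, naturality := fun _ _ _ => base_hom_ext p _ _ }
    obtain ⟨i, h, hh, -⟩ := Scheme.exists_π_app_comp_eq_of_locallyOfFinitePresentation (tower p Z) τ t c hc m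
      (by ext j; exact base_hom_ext p _ _)
    have H : ∀ n : ℕ, π n ≫ fi p Z n = π 0 := by
      intro n
      induction n with
      | zero => exact Category.comp_id _
      | succ n ih =>
        show π (n + 1) ≫ fi p Z n ≫ FrobSch.frob Z p = π 0
        rw [fi_comm, reassoc_of% hπ n, ih]
    exact ⟨i.unop.down, π i.unop.down, h, hh, H _⟩

/-- A retract of a perfection of a scheme of finite presentation has a finitely presented model. -/
theorem exists_model [FrobSch.IsCharP X p] (hX : FrobSch.IsPerfect X p) (Z : Scheme.{u}) [FrobSch.IsCharP Z p]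
    [CompactSpace Z] [QuasiSeparatedSpace Z] (t : Z ⟶ base.{u} p) [LocallyOfFinitePresentation t]
    [QuasiSeparated t] {P : Scheme.{u}} [FrobSch.IsCharP P p] (q₀ : P ⟶ Z) (perf : FrobSch.IsPerfection q₀ p)
    (hst : ∀ (T : Scheme.{u}) (t : T ⟶ base.{u} p) (_ : LocallyOfFinitePresentation t) (m : P ⟶ T),
        ∃ (n : ℕ) (q : P ⟶ Z) (h : Z ⟶ T), q ≫ h = m ∧ q ≫ fi p Z n = q₀)
    (a : X ⟶ P) (g : P ⟶ X) (hag : a ≫ g = 𝟙 X) :
    ∃ (X0 : Scheme.{u}) (s : X0 ⟶ base.{u} p) (_ : LocallyOfFinitePresentation s)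
      (_ : CompactSpace X0) (_ : QuasiSeparatedSpace X0) (π : X ⟶ X0), FrobSch.IsPerfection π p := by
  obtain ⟨n, q, h, hqh, hq⟩ := hst Z t inferInstance (g ≫ a ≫ q₀)
  -- the equalizer of `h` and `F ^ n`
  have hw : h ≫ t = fi p Z n ≫ t := base_hom_ext p _ _
  let l := pullback.lift h (fi p Z n) hw
  let δ := pullback.diagonal t
  let X0 := pullback l δ
  let ι : X0 ⟶ Z := pullback.fst l δ
  have : LocallyOfFinitePresentation δ := Groth.Agent.S4599.result t
  have : QuasiCompact δ := QuasiSeparated.quasiCompact_diagonal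
  have hι : LocallyOfFinitePresentation ι := MorphismProperty.pullback_fst _ _ inferInstance
  have : QuasiCompact ι := MorphismProperty.pullback_fst _ _ inferInstance
  have : QuasiSeparated ι := MorphismProperty.pullback_fst _ _ (inferInstance : QuasiSeparated δ)
  have hιeq : ι ≫ h = ι ≫ fi p Z n := by
    have h1 := congrArg (· ≫ pullback.fst t t) (pullback.condition (f := l) (g := δ))
    have h2 := congrArg (· ≫ pullback.snd t t) (pullback.condition (f := l) (g := δ))
    simp only [l, δ, Category.assoc, pullback.lift_fst, pullback.lift_snd, pullback.diagonal_fst,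
      pullback.diagonal_snd, Category.comp_id] at h1 h2
    exact h1.trans h2.symm
  have hlift : ∀ {Y : Scheme.{u}} (r : Y ⟶ Z), r ≫ h = r ≫ fi p Z n → r ≫ l = (r ≫ h) ≫ δ := by
    intro Y r hr
    apply pullback.hom_ext
    · erw [Category.assoc, Category.assoc, Category.assoc, pullback.lift_fst, pullback.diagonal_fst, Category.comp_id]
    · erw [Category.assoc, Category.assoc, Category.assoc, pullback.lift_snd, pullback.diagonal_snd, Category.comp_id]
      exact hr.symm
  have hk : (a ≫ q) ≫ h = (a ≫ q) ≫ fi p Z n := by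
    rw [Category.assoc, hqh, reassoc_of% hag, Category.assoc, hq]
  let π : X ⟶ X0 := pullback.lift (a ≫ q) ((a ≫ q) ≫ h) (hlift _ hk)
  have hπι : π ≫ ι = a ≫ q := pullback.lift_fst _ _ _
  have : Mono ι := pullback.fst_of_mono
  refine ⟨X0, ι ≫ t, inferInstance, QuasiCompact.compactSpace_of_compactSpace ι,
    quasiSeparatedSpace_of_quasiSeparated ι, π, hX, fun Y hYc hY => ⟨fun u v huv => ?_, fun r₀ => ?_⟩⟩
  · replace huv := congrArg (fun k => k ≫ ι ≫ fi p Z n) huv
    simp only [Category.assoc, reassoc_of% hπι, hq] at huv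
    have h2 : u ≫ a = v ≫ a := (perf.2 Y hY).1 (by simpa using huv)
    simpa [hag] using congrArg (· ≫ g) h2
  · set r := r₀ ≫ ι with hr0
    have hr : r ≫ h = r ≫ fi p Z n := by rw [hr0, Category.assoc, hιeq, Category.assoc]
    obtain ⟨r', hr'⟩ := (perf.2 Y hY).2 (r ≫ fi p Z n)
    change r' ≫ q₀ = _ at hr'
    have hr'q : r' ≫ q = r := cancel_fi p hY n (by rw [Category.assoc, hq, hr'])
    refine ⟨r' ≫ g, ?_⟩
    show (r' ≫ g) ≫ π = r₀
    rw [← cancel_mono ι, Category.assoc, Category.assoc, hπι, ← hr0, ← hr'q]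
    have h3 : r' ≫ g ≫ a = r' := (perf.2 Y hY).1 (by
      show (r' ≫ g ≫ a) ≫ q₀ = r' ≫ q₀
      have h4 : (r' ≫ g ≫ a) ≫ q₀ = r ≫ h := by rw [← hr'q]; simp [hqh]
      rw [h4, hr, hr'])
    rw [reassoc_of% h3]

end Groth.Agent.PerfModel7
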