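import Groth.Agent.PerfModel7.Basic

/-! A compact perfect scheme is a retract of the perfection of a scheme of finite presentation. -/

universe u

open CategoryTheory CategoryTheory.Limits AlgebraicGeometry Opposite

namespace Groth.Agent.PerfModel7

theorem exists_finitePresentation_model (p : ℕ) [Fact p.Prime] (X : Scheme.{u})
    [FrobSch.IsCharP X p] [CompactSpace X] [QuasiSeparatedSpace X] [FrobSch.IsPerfect X p]
    (hc : ∀ (J : Type u) [SmallCategory J] [IsCofiltered J] (F : J ⥤ Scheme.{u})
      [∀ j, FrobSch.IsCharP (F.obj j) p] (c : Cone F) [FrobSch.IsCharP c.pt p], IsLimit c →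
      (∀ ⦃i j : J⦄ (a : i ⟶ j), IsAffineHom (F.map a)) →
      (∀ j, FrobSch.IsPerfect (F.obj j) p ∧ CompactSpace (F.obj j) ∧ QuasiSeparatedSpace (F.obj j)) →
      FrobSch.IsPerfect c.pt p → CompactSpace c.pt → QuasiSeparatedSpace c.pt →
      (∀ g : c.pt ⟶ X, ∃ (j : J) (gj : F.obj j ⟶ X), c.π.app j ≫ gj = g)) :
    ∃ (X0 : Scheme.{u}) (s : X0 ⟶ base.{u} p) (_ : LocallyOfFinitePresentation s)
      (_ : CompactSpace X0) (_ : QuasiSeparatedSpace X0) (π : X ⟶ X0), FrobSch.IsPerfection π p := by
  obtain ⟨f⟩ := exists_to_base p X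
  obtain ⟨I, _, _, _, D, c, hlim, hD, haff, ⟨e⟩⟩ := Groth.Agent.S7383.result f
  let D' : Iᵒᵖ ⥤ Scheme.{u} := D ⋙ Over.forget _
  let c' : Cone D' := (Over.forget _).mapCone c
  have : IsCofiltered Iᵒᵖ := inferInstance
  have : IsConnected Iᵒᵖ := IsCofiltered.isConnected _
  have hc' : IsLimit c' := isLimitOfPreserves (Over.forget _) hlim
  have hch : ∀ i, FrobSch.IsCharP (D'.obj i) p := fun i => FrobSch.IsCharP.of_hom (D.obj i).hom p
  have : ∀ i, CompactSpace (D'.obj i) := fun i =>
    @QuasiCompact.compactSpace_of_compactSpace _ _ (D.obj i).hom (hD i).2.1 _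
  have : ∀ i, QuasiSeparatedSpace (D'.obj i) := fun i =>
    @quasiSeparatedSpace_of_quasiSeparated _ _ (D.obj i).hom _ (hD i).2.2
  choose P hPc π hperf hst using fun i => exists_perfection_stages p (D'.obj i)
  have hext : ∀ {Y : Scheme.{u}} [FrobSch.IsCharP Y p] (_ : FrobSch.IsPerfect Y p) {i : Iᵒᵖ} {u v : Y ⟶ P i},
      u ≫ π i = v ≫ π i → u = v := fun {Y} _ hY {i} {u v} h => ((hperf i).2 Y hY).1 h
  choose tr htr₀ using fun (i j : Iᵒᵖ) (a : i ⟶ j) => ((hperf j).2 (P i) (hperf i).1).2 (π i ≫ D'.map a)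
  have htr : ∀ i j a, tr i j a ≫ π j = π i ≫ D'.map a := htr₀
  let Pf : Iᵒᵖ ⥤ Scheme.{u} :=
    { obj := P
      map := fun {i j} a => tr i j a
      map_id := fun i => hext (hperf i).1 (by rw [htr]; simp)
      map_comp := fun {i j k} a b => hext (hperf i).1 (by
        rw [htr, Category.assoc]
        have h2 : tr j k b ≫ π k = π j ≫ D'.map b := htr j k b
        have h1 : tr i j a ≫ π j = π i ≫ D'.map a := htr i j a
        rw [h2, reassoc_of% h1, D'.map_comp]) }
  have hPaff : ∀ (i j : Iᵒᵖ) (a : i ⟶ j), IsAffineHom (Pf.map a) := fun i j a =>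
    (H9Misc.PerfSchLib.isAffineHom_iff (hperf i) (hperf j) (f := D'.map a) (fP := tr i j a) (htr i j a)).1
      (haff i j a)
  obtain ⟨cP, hcP, hproj⟩ := Groth.Agent.S2151.result Pf
  have : ∀ i, FrobSch.IsCharP (Pf.obj i) p := hPc
  have i₀ : Iᵒᵖ := op (Classical.arbitrary I)
  have : FrobSch.IsCharP cP.pt p := FrobSch.IsCharP.of_hom (cP.π.app i₀) p
  have hcPperf : FrobSch.IsPerfect cP.pt p := by
    have : ∀ i, IsIso (FrobSch.frob (Pf.obj i) p) := fun i => (hperf i).1
    let s : cP.pt ⟶ cP.pt := hcP.lift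
      { pt := cP.pt
        π := { app := fun i => cP.π.app i ≫ inv (FrobSch.frob (Pf.obj i) p)
               naturality := fun i j a => by
                 dsimp
                 rw [Category.id_comp, Category.assoc, ← cP.w a, Category.assoc]
                 congr 1
                 rw [IsIso.comp_inv_eq, Category.assoc, ← FrobSch.frob_comp, IsIso.inv_hom_id_assoc] } }
    refine ⟨s, hcP.hom_ext fun i => ?_, hcP.hom_ext fun i => ?_⟩
    · rw [Category.assoc, hcP.fac]; dsimp
      rw [← Category.assoc, FrobSch.frob_comp, Category.assoc, IsIso.hom_inv_id,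
        Category.comp_id, Category.id_comp]
    · rw [Category.assoc, FrobSch.frob_comp, reassoc_of% (hcP.fac _ i)]; dsimp
      simp only [Category.assoc, IsIso.inv_hom_id, Category.comp_id, Category.id_comp]
  -- comparison with `X`
  have hXp : FrobSch.IsPerfect X p := inferInstance
  let xproj : ∀ i, X ⟶ D'.obj i := fun i => e.inv.left ≫ c'.π.app i
  choose xl hxl₀ using fun i => ((hperf i).2 X hXp).2 (xproj i)
  have hxl : ∀ i, xl i ≫ π i = xproj i := hxl₀
  let u : X ⟶ cP.pt := hcP.lift
    { pt := X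
      π := { app := xl
             naturality := fun i j a => by
               dsimp
               rw [Category.id_comp]
               refine hext hXp ?_
               have h2 : tr i j a ≫ π j = π i ≫ D'.map a := htr i j a
               have hi : xl i ≫ π i = xproj i := hxl i
               have hj : xl j ≫ π j = xproj j := hxl j
               rw [hj, Category.assoc, show Pf.map a = tr i j a from rfl, h2, reassoc_of% hi]
               simp only [xproj, Category.assoc]
               exact congrArg (e.inv.left ≫ ·) (c'.w a).symm } }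
  have hu : ∀ i, u ≫ cP.π.app i = xl i := hcP.fac _
  let w : cP.pt ⟶ c'.pt := hc'.lift
    { pt := cP.pt
      π := { app := fun i => cP.π.app i ≫ π i
             naturality := fun i j a => by
               dsimp
               rw [Category.id_comp, Category.assoc, ← htr i j a, ← cP.w a, Category.assoc] } }
  let v : cP.pt ⟶ X := w ≫ e.hom.left
  have hw : ∀ i, w ≫ c'.π.app i = cP.π.app i ≫ π i := hc'.fac _
  have he : e.inv.left ≫ e.hom.left = 𝟙 X := congrArg CommaMorphism.left e.inv_hom_id
  have he' : e.hom.left ≫ e.inv.left = 𝟙 _ := congrArg CommaMorphism.left e.hom_inv_id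
  have huv : u ≫ v = 𝟙 X := by
    have h1 : ∀ i, (u ≫ v ≫ e.inv.left) ≫ c'.π.app i = e.inv.left ≫ c'.π.app i := fun i => by
      have hv : v ≫ e.inv.left = w := (Category.assoc _ _ _).trans ((congrArg (w ≫ ·) he').trans (Category.comp_id w))
      rw [hv, Category.assoc]
      erw [hw i, reassoc_of% (hu i)]
      exact hxl i
    have h2 := hc'.hom_ext h1
    calc u ≫ v = (u ≫ v ≫ e.inv.left) ≫ e.hom.left := by
          rw [Category.assoc, Category.assoc, he, Category.comp_id]
      _ = 𝟙 X := by rw [h2, he]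
  have hvu : v ≫ u = 𝟙 _ := hcP.hom_ext fun i => hext hcPperf (by
    rw [Category.assoc v u, hu, Category.id_comp]
    show (v ≫ xl i) ≫ π i = cP.π.app i ≫ π i
    rw [Category.assoc, show xl i ≫ π i = xproj i from hxl i]
    have hv : v ≫ e.inv.left = w := (Category.assoc _ _ _).trans ((congrArg (w ≫ ·) he').trans (Category.comp_id w))
    show v ≫ e.inv.left ≫ c'.π.app i = _
    rw [← Category.assoc, hv]
    exact hw i)
  let cX : Cone Pf := cP.extend u
  have hcX : IsLimit cX := by
    haveI : IsIso u := ⟨v, huv, hvu⟩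
    exact IsLimit.extendIso u hcP
  have : ∀ i, QuasiCompact (π i) := fun i =>
    have := H9Misc.PerfSchLib.isAffineHom p (hperf i)
    inferInstance
  obtain ⟨j, g, hg⟩ := @hc Iᵒᵖ _ _ Pf _ cX ‹FrobSch.IsCharP X p› hcX (fun i j a => hPaff i j a)
    (fun i => ⟨(hperf i).1, QuasiCompact.compactSpace_of_compactSpace (π i),
      have := H9Misc.PerfSchLib.isAffineHom p (hperf i)
      quasiSeparatedSpace_of_quasiSeparated (π i)⟩)
    hXp ‹_› ‹_› (𝟙 X)
  exact @exists_model p _ X _ hXp (D'.obj j) _ _ _ (D.obj j).hom (hD j).1 (hD j).2.2 _ _ (π j) (hperf j) (hst j) (cX.π.app j) g hg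

end Groth.Agent.PerfModel7
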